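import Groth.Agent.Lib.DimFormula14.Ineq
import Groth.Agent.Lib.AlgSpRel14.FlatDim

/-!
# The dimension inequality for schemes
-/

universe u

set_option backward.isDefEq.respectTransparency.types false

open CategoryTheory AlgebraicGeometry

namespace Groth.Agent.DimFormula14

theorem isAlgebraic_residueField_of_evaluation {X : Scheme.{u}} {U : X.Opens} (hU : IsAffineOpen U) (x : X) (hx : x ∈ U)
    {R : Type u} [CommRing R] [IsDomain R] [Algebra R (X.residueField x)]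
    (h : ∀ a, ∃ r, algebraMap R (X.residueField x) r = X.evaluation U x hx a) :
    Algebra.IsAlgebraic R (X.residueField x) := by
  refine ⟨fun z => ?_⟩
  obtain ⟨a, b, rfl⟩ := VarDim.exists_evaluation_eq_div hU x hx z
  obtain ⟨r, hr⟩ := h a
  obtain ⟨s, hs⟩ := h b
  rw [← hr, ← hs, div_eq_mul_inv]
  exact (isAlgebraic_algebraMap r).mul (isAlgebraic_algebraMap s).inv

theorem rdeg_eq_trdeg {A B : Scheme.{u}} (f : A ⟶ B) {U : A.Opens} (hU : IsAffineOpen U) {V : B.Opens}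
    (hV : IsAffineOpen V) (e : U ≤ f ⁻¹ᵁ V) {x : A} (hx : x ∈ U) :
    letI := (f.appLE V U e).hom.toAlgebra
    letI P := (hV.primeIdealOf ⟨f x, e hx⟩).asIdeal
    letI Q := (hU.primeIdealOf ⟨x, hx⟩).asIdeal
    ∀ [Q.LiesOver P], Algebra.trdeg (Γ(B, V) ⧸ P) (Γ(A, U) ⧸ Q) = FibDim14.rdeg f x := by
  letI := (f.appLE V U e).hom.toAlgebra
  let P := (hV.primeIdealOf ⟨f x, e hx⟩).asIdeal
  let Q := (hU.primeIdealOf ⟨x, hx⟩).asIdeal
  intro _
  let evB := (B.evaluation V (f x) (e hx)).hom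
  let evA := (A.evaluation U x hx).hom
  have hkB : RingHom.ker evB = P := VarDim.ker_evaluation hV (f x) (e hx)
  have hkA : RingHom.ker evA = Q := VarDim.ker_evaluation hU x hx
  have sqr : ∀ b, f.residueFieldMap x (evB b) = evA (f.appLE V U e b) := fun b => by
    refine (Scheme.evaluation_naturality_apply f x (e hx) b).trans ?_
    show A.residue x (A.presheaf.germ (f ⁻¹ᵁ V) x (e hx) (f.app V b)) = A.residue x (A.presheaf.germ U x hx (f.appLE V U e b))
    exact congrArg (A.residue x) (TopCat.Presheaf.germ_res_apply A.presheaf (homOfLE e) x hx (f.app V b)).symm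
  let ιB : Γ(B, V) ⧸ P →+* B.residueField (f x) := Ideal.Quotient.lift P evB fun a ha => RingHom.mem_ker.1 (hkB.symm ▸ ha)
  let ιA : Γ(A, U) ⧸ Q →+* A.residueField x := Ideal.Quotient.lift Q evA fun a ha => RingHom.mem_ker.1 (hkA.symm ▸ ha)
  have hιB : Function.Injective ιB := RingHom.lift_injective_of_ker_le_ideal _ _ hkB.le
  have hιA : Function.Injective ιA := RingHom.lift_injective_of_ker_le_ideal _ _ hkA.le
  haveI : IsDomain (Γ(B, V) ⧸ P) := inferInstance
  haveI : IsDomain (Γ(A, U) ⧸ Q) := inferInstance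
  letI := (f.residueFieldMap x).hom.toAlgebra
  letI : Algebra (Γ(B, V) ⧸ P) (B.residueField (f x)) := ιB.toAlgebra
  letI : Algebra (Γ(A, U) ⧸ Q) (A.residueField x) := ιA.toAlgebra
  letI : Algebra (Γ(B, V) ⧸ P) (A.residueField x) := ((f.residueFieldMap x).hom.comp ιB).toAlgebra
  haveI : IsScalarTower (Γ(B, V) ⧸ P) (B.residueField (f x)) (A.residueField x) :=
    IsScalarTower.of_algebraMap_eq fun _ => rfl
  haveI : IsScalarTower (Γ(B, V) ⧸ P) (Γ(A, U) ⧸ Q) (A.residueField x) := IsScalarTower.of_algebraMap_eq fun z => by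
    obtain ⟨b, rfl⟩ := Ideal.Quotient.mk_surjective z
    exact sqr b
  haveI : FaithfulSMul (Γ(B, V) ⧸ P) (B.residueField (f x)) := (faithfulSMul_iff_algebraMap_injective _ _).2 hιB
  haveI : FaithfulSMul (Γ(A, U) ⧸ Q) (A.residueField x) := (faithfulSMul_iff_algebraMap_injective _ _).2 hιA
  haveI : FaithfulSMul (Γ(B, V) ⧸ P) (Γ(A, U) ⧸ Q) := faithfulSMul_quotient P Q
  haveI : Algebra.IsAlgebraic (Γ(B, V) ⧸ P) (B.residueField (f x)) :=
    isAlgebraic_residueField_of_evaluation hV (f x) (e hx) fun a => ⟨Ideal.Quotient.mk P a, rfl⟩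
  haveI : Algebra.IsAlgebraic (Γ(A, U) ⧸ Q) (A.residueField x) :=
    isAlgebraic_residueField_of_evaluation hU x hx fun a => ⟨Ideal.Quotient.mk Q a, rfl⟩
  have h1 := trdeg_add_eq (Γ(B, V) ⧸ P) (Γ(A, U) ⧸ Q) (A := A.residueField x)
  have h2 := trdeg_add_eq (Γ(B, V) ⧸ P) (B.residueField (f x)) (A := A.residueField x)
  rw [trdeg_eq_zero (R := Γ(A, U) ⧸ Q) (A := A.residueField x), add_zero] at h1
  rw [trdeg_eq_zero (R := Γ(B, V) ⧸ P) (A := B.residueField (f x)), zero_add] at h2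
  exact h1.trans h2.symm

theorem exists_minimalPrime_height {R : Type u} [CommRing R] [IsNoetherianRing R] (q : Ideal R) [q.IsPrime] :
    ∃ (Q : PrimeSpectrum R) (h : Q.asIdeal ≤ q), Q.asIdeal.height = 0 ∧
      q.height ≤ (q.map (Ideal.Quotient.mk Q.asIdeal)).height := by
  obtain ⟨l, hl, hlen⟩ := q.exists_ltSeries_length_eq_height
  have hle : l.head.asIdeal ≤ q := by
    have := LTSeries.head_le_last l
    rw [hl] at this
    exact this
  refine ⟨l.head, hle, ?_, ?_⟩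
  · rw [PrimeSpectrum.height_eq_orderHeight, Order.height_eq_zero]
    intro b hb
    rcases eq_or_lt_of_le hb with rfl | hlt
    · exact le_rfl
    · exfalso
      have h := Order.length_le_height (p := l.cons b hlt) (x := (⟨q, inferInstance⟩ : PrimeSpectrum R))
        (by rw [RelSeries.last_cons, hl])
      rw [← PrimeSpectrum.height_eq_orderHeight, RelSeries.cons_length, Nat.cast_add, Nat.cast_one] at h
      rw [← hlen] at h
      exact absurd (ENat.coe_le_coe.1 (by exact_mod_cast h : ((l.length + 1 : ℕ) : ℕ∞) ≤ (l.length : ℕ∞))) (by omega)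
  · let e := PrimeSpectrum.comap (Ideal.Quotient.mk l.head.asIdeal)
    have hmem : ∀ i, l i ∈ Set.range e := fun i => by
      rw [range_comap_of_surjective _ _ Ideal.Quotient.mk_surjective, Ideal.mk_ker]
      exact (LTSeries.head_le l i)
    choose c hc using hmem
    let l' : LTSeries (PrimeSpectrum (R ⧸ l.head.asIdeal)) :=
      LTSeries.mk l.length c fun i j hij => by
        have h := l.strictMono hij
        rw [← hc i, ← hc j] at h
        refine lt_of_le_of_ne ?_ fun he => h.ne (congrArg e he)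
        exact (Ideal.comap_le_comap_iff_of_surjective _ Ideal.Quotient.mk_surjective _ _).1 h.le
    have hq : (q.map (Ideal.Quotient.mk l.head.asIdeal)) = (c (Fin.last _)).asIdeal := by
      have h := hc (Fin.last l.length)
      rw [show l (Fin.last l.length) = ⟨q, inferInstance⟩ from hl] at h
      rw [show q = (c (Fin.last _)).asIdeal.comap (Ideal.Quotient.mk l.head.asIdeal) from
        (congrArg PrimeSpectrum.asIdeal h).symm, Ideal.map_comap_of_surjective _ Ideal.Quotient.mk_surjective]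
    rw [← hlen, hq, PrimeSpectrum.height_eq_orderHeight]
    exact Order.length_le_height (p := l') le_rfl

theorem stalkDim_eq_height {X : Scheme.{u}} {U : X.Opens} (hU : IsAffineOpen U) {x : X} (hx : x ∈ U) :
    ringKrullDim (X.presheaf.stalk x) = ((hU.primeIdealOf ⟨x, hx⟩).asIdeal.height : WithBot ℕ∞) := by
  letI := TopCat.Presheaf.algebra_section_stalk X.presheaf (⟨x, hx⟩ : U)
  haveI := hU.isLocalization_stalk ⟨x, hx⟩
  exact IsLocalization.AtPrime.ringKrullDim_eq_height _ (X.presheaf.stalk x)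

theorem tr_eq_rd {A B : Scheme.{u}} (f : A ⟶ B) [LocallyOfFiniteType f] {U : A.Opens} (hU : IsAffineOpen U)
    {V : B.Opens} (hV : IsAffineOpen V) (e : U ≤ f ⁻¹ᵁ V) {x : A} (hx : x ∈ U) :
    letI := (f.appLE V U e).hom.toAlgebra
    letI P := (hV.primeIdealOf ⟨f x, e hx⟩).asIdeal
    letI Q := (hU.primeIdealOf ⟨x, hx⟩).asIdeal
    ∀ [Q.LiesOver P], tr (Γ(B, V) ⧸ P) (Γ(A, U) ⧸ Q) = (FibDim14.rd f x : ℕ∞) := by
  intro _
  rw [tr, rdeg_eq_trdeg f hU hV e hx, FibDim14.rdeg_eq_rd, map_natCast]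

/-- The dimension inequality at a point. -/
theorem exists_stalkDim_add_rd_le {A B : Scheme.{u}} (f : A ⟶ B) [IsLocallyNoetherian B] [LocallyOfFiniteType f]
    (x : A) : ∃ ξ, ξ ⤳ x ∧ ringKrullDim (A.presheaf.stalk ξ) = 0 ∧
      ringKrullDim (A.presheaf.stalk x) + (FibDim14.rd f x : WithBot ℕ∞) ≤
        ringKrullDim (B.presheaf.stalk (f x)) + (FibDim14.rd f ξ : WithBot ℕ∞) := by
  obtain ⟨U, V, hU, hV, e, hx⟩ := VarDim.exists_chart f x
  haveI : IsNoetherianRing Γ(B, V) := IsLocallyNoetherian.component_noetherian ⟨V, hV⟩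
  letI : Algebra Γ(B, V) Γ(A, U) := (f.appLE V U e).hom.toAlgebra
  haveI : Algebra.FiniteType Γ(B, V) Γ(A, U) := f.finiteType_appLE hV hU e
  haveI : IsNoetherianRing Γ(A, U) := Algebra.FiniteType.isNoetherianRing Γ(B, V) Γ(A, U)
  obtain ⟨Q, hQq, hQ0, hht⟩ := exists_minimalPrime_height (hU.primeIdealOf ⟨x, hx⟩).asIdeal
  let ξ := hU.fromSpec Q
  have hξU : ξ ∈ U := VarDim.fromSpec_mem hU Q
  have hξQ : hU.primeIdealOf ⟨ξ, hξU⟩ = Q := VarDim.primeIdealOf_fromSpec hU Q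
  have hsp : ξ ⤳ x := (VarDim.primeIdealOf_le_iff hU ⟨ξ, hξU⟩ ⟨x, hx⟩).1 (hξQ.symm ▸ hQq)
  refine ⟨ξ, hsp, ?_, ?_⟩
  · rw [stalkDim_eq_height hU hξU, hξQ, hQ0]; rfl
  have hP : ∀ (z : A) (hz : z ∈ U), (hV.primeIdealOf ⟨f z, e hz⟩).asIdeal =
      (hU.primeIdealOf ⟨z, hz⟩).asIdeal.under Γ(B, V) := fun z hz =>
    congrArg PrimeSpectrum.asIdeal (IsAffineOpen.comap_primeIdealOf_appLE V hV U hU e hz).symm
  let p := (hV.primeIdealOf ⟨f x, e hx⟩).asIdeal
  let q := (hU.primeIdealOf ⟨x, hx⟩).asIdeal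
  let P := (hV.primeIdealOf ⟨f ξ, e hξU⟩).asIdeal
  let Q' := (hU.primeIdealOf ⟨ξ, hξU⟩).asIdeal
  haveI : q.LiesOver p := ⟨hP x hx⟩
  haveI : Q'.LiesOver P := ⟨hP ξ hξU⟩
  have hQ'q : Q' ≤ q := by simpa [Q', q, hξQ] using hQq
  have hPp : P ≤ p := ((hP ξ hξU).le.trans (Ideal.comap_mono hQ'q)).trans (hP x hx).ge
  let R' := Γ(B, V) ⧸ P
  let S' := Γ(A, U) ⧸ Q'
  haveI := faithfulSMul_quotient P Q'
  let p' : Ideal R' := p.map (Ideal.Quotient.mk P)
  let q' : Ideal S' := q.map (Ideal.Quotient.mk Q')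
  haveI : p'.IsPrime := Ideal.map_isPrime_of_surjective Ideal.Quotient.mk_surjective (by rwa [Ideal.mk_ker])
  haveI : q'.IsPrime := Ideal.map_isPrime_of_surjective Ideal.Quotient.mk_surjective (by rwa [Ideal.mk_ker])
  have hp' : p'.comap (Ideal.Quotient.mk P) = p := by
    rw [Ideal.comap_map_of_surjective _ Ideal.Quotient.mk_surjective, ← RingHom.ker_eq_comap_bot, Ideal.mk_ker,
      sup_eq_left.2 hPp]
  have hq' : q'.comap (Ideal.Quotient.mk Q') = q := by
    rw [Ideal.comap_map_of_surjective _ Ideal.Quotient.mk_surjective, ← RingHom.ker_eq_comap_bot, Ideal.mk_ker,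
      sup_eq_left.2 hQ'q]
  haveI : q'.LiesOver p' := ⟨by
    refine Ideal.comap_injective_of_surjective _ Ideal.Quotient.mk_surjective ?_
    rw [hp', Ideal.under, Ideal.comap_comap]
    show p = _
    rw [show (algebraMap R' S').comp (Ideal.Quotient.mk P) = (Ideal.Quotient.mk Q').comp (algebraMap Γ(B, V) Γ(A, U))
      from rfl, ← Ideal.comap_comap, hq']
    exact hP x hx⟩
  haveI : Algebra.FiniteType Γ(B, V) S' := .trans (R := Γ(B, V)) (S := Γ(A, U)) inferInstance inferInstance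
  haveI : Algebra.FiniteType R' S' := .of_restrictScalars_finiteType Γ(B, V) R' S'
  have key := height_add_tr_le R' S' p' q'
  have hp : p'.height ≤ p.height := by
    have := height_le_of_surjective (Ideal.Quotient.mk P) Ideal.Quotient.mk_surjective p'
    rwa [hp'] at this
  have e1 : tr R' S' = (FibDim14.rd f ξ : ℕ∞) := tr_eq_rd f hU hV e hξU
  have e2 : tr (Γ(B, V) ⧸ p) (Γ(A, U) ⧸ q) = (FibDim14.rd f x : ℕ∞) := tr_eq_rd f hU hV e hx
  have e3 : tr (R' ⧸ p') (S' ⧸ q') = tr (Γ(B, V) ⧸ p) (Γ(A, U) ⧸ q) := by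
    rw [tr, tr]
    let a : (R' ⧸ p') ≃+* (Γ(B, V) ⧸ p) := DoubleQuot.quotQuotEquivQuotOfLE hPp
    let b : (S' ⧸ q') ≃+* (Γ(A, U) ⧸ q) := DoubleQuot.quotQuotEquivQuotOfLE hQ'q
    congr 1
    letI alg : Algebra (R' ⧸ p') (Γ(A, U) ⧸ q) := (b.toRingHom.comp (algebraMap (R' ⧸ p') (S' ⧸ q'))).toAlgebra
    let b' : (S' ⧸ q') ≃ₐ[R' ⧸ p'] (Γ(A, U) ⧸ q) := AlgEquiv.ofRingEquiv (f := b) fun _ => rfl
    rw [b'.trdeg_eq]
    letI : Algebra (R' ⧸ p') (Γ(B, V) ⧸ p) := a.toRingHom.toAlgebra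
    haveI : FaithfulSMul (R' ⧸ p') (Γ(B, V) ⧸ p) := (faithfulSMul_iff_algebraMap_injective _ _).2 a.injective
    haveI := faithfulSMul_quotient p q
    haveI : IsScalarTower (R' ⧸ p') (Γ(B, V) ⧸ p) (Γ(A, U) ⧸ q) := IsScalarTower.of_algebraMap_eq fun z => by
      obtain ⟨z, rfl⟩ := Ideal.Quotient.mk_surjective z
      obtain ⟨z, rfl⟩ := Ideal.Quotient.mk_surjective z
      rfl
    haveI : Algebra.IsAlgebraic (R' ⧸ p') (Γ(B, V) ⧸ p) := ⟨fun w => by
      obtain ⟨r, rfl⟩ := a.surjective w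
      exact isAlgebraic_algebraMap r⟩
    have h := trdeg_add_eq (R' ⧸ p') (Γ(B, V) ⧸ p) (A := Γ(A, U) ⧸ q)
    rw [trdeg_eq_zero (R := R' ⧸ p') (A := Γ(B, V) ⧸ p), zero_add] at h
    exact h.symm
  rw [e1, e3, e2] at key
  have hh : q.height ≤ q'.height := by
    have hQeq : Q' = Q.asIdeal := congrArg PrimeSpectrum.asIdeal hξQ
    show q.height ≤ (q.map (Ideal.Quotient.mk Q')).height
    rw [hQeq]
    exact hht
  have fin := le_trans (add_le_add hh le_rfl) (key.trans (add_le_add hp le_rfl))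
  rw [stalkDim_eq_height hU hx, stalkDim_eq_height hV (e hx)]
  exact_mod_cast fin

end Groth.Agent.DimFormula14
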