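import Mathlib.RingTheory.Ideal.KrullsHeightTheorem
import Mathlib.RingTheory.KrullDimension.Polynomial
import Mathlib.RingTheory.KrullDimension.Field
import Mathlib.RingTheory.AlgebraicIndependent.TranscendenceBasis
import Mathlib.RingTheory.Algebraic.Integral
import Mathlib.RingTheory.Adjoin.FG

/-!
# The dimension inequality
-/

universe u

open Polynomial Ideal

namespace Groth.Agent.DimFormula14

/-- transcendence degree as an extended natural number -/
noncomputable def tr (A : Type u) (B : Type u) [CommRing A] [CommRing B] [Algebra A B] : ℕ∞ :=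
  Cardinal.toENat (Algebra.trdeg A B)

section Mono

variable {A B : Type u} [CommRing A] [CommRing B] [IsDomain A] [IsDomain B] [Algebra A B]

theorem tr_le_one_of_adjoin_singleton {y : B} (hy : Algebra.adjoin A {y} = ⊤) : tr A B ≤ 1 := by
  have : Algebra.IsAlgebraic (Algebra.adjoin A ({y} : Set B)) B :=
    ⟨fun b => isAlgebraic_algebraMap (⟨b, hy.symm ▸ Algebra.mem_top⟩ : Algebra.adjoin A ({y} : Set B))⟩
  have h := Algebra.IsAlgebraic.trdeg_le_cardinalMk A ({y} : Set B)
  rw [Cardinal.mk_singleton] at h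
  exact (OrderHomClass.mono Cardinal.toENat h).trans (le_of_eq (map_one _))

theorem tr_eq_zero_of_adjoin_singleton {y : B} (hy : Algebra.adjoin A {y} = ⊤) (ha : IsAlgebraic A y) :
    tr A B = 0 := by
  have h1 : (Algebra.adjoin A ({y} : Set B)).IsAlgebraic :=
    Algebra.isAlgebraic_adjoin_iff.2 fun x hx => by rw [Set.mem_singleton_iff.1 hx]; exact ha
  have : Algebra.IsAlgebraic A B := ⟨fun b => h1 b (hy.symm ▸ Algebra.mem_top)⟩
  rw [tr, trdeg_eq_zero, map_zero]

theorem one_le_tr {y : B} (hy : ¬ IsAlgebraic A y) : 1 ≤ tr A B := by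
  have : Algebra.Transcendental A B := ⟨y, hy⟩
  have h := trdeg_pos A B
  rw [tr, ← map_one Cardinal.toENat]
  exact OrderHomClass.mono Cardinal.toENat (Cardinal.one_le_iff_ne_zero.2 h.ne')

end Mono

theorem height_le_of_surjective {T S : Type u} [CommRing T] [CommRing S] (φ : T →+* S) (hφ : Function.Surjective φ)
    [IsNoetherianRing S] (q : Ideal S) [q.IsPrime] : q.height ≤ (q.comap φ).height := by
  obtain ⟨l, hl, hlen⟩ := q.exists_ltSeries_length_eq_height
  rw [← hlen, show (q.comap φ).height = Order.height (PrimeSpectrum.comap φ ⟨q, inferInstance⟩) from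
    PrimeSpectrum.height_eq_orderHeight (PrimeSpectrum.comap φ ⟨q, inferInstance⟩)]
  exact Order.length_le_height (p := l.map (PrimeSpectrum.comap φ) (RingHom.strictMono_comap_of_surjective hφ))
    (by rw [LTSeries.last_map, hl])

theorem height_add_one_le_of_surjective {T S : Type u} [CommRing T] [IsDomain T] [CommRing S] (φ : T →+* S)
    (hφ : Function.Surjective φ) (hker : ¬ Function.Injective φ) [IsNoetherianRing S] (q : Ideal S) [q.IsPrime] :
    q.height + 1 ≤ (q.comap φ).height := by
  obtain ⟨l, hl, hlen⟩ := q.exists_ltSeries_length_eq_height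
  let l' := l.map (PrimeSpectrum.comap φ) (RingHom.strictMono_comap_of_surjective hφ)
  have hlt : (⊥ : PrimeSpectrum T) < l'.head := by
    have h0 : (⊥ : Ideal T) < RingHom.ker φ := bot_lt_iff_ne_bot.2 fun h => hker ((RingHom.injective_iff_ker_eq_bot φ).2 h)
    rw [← PrimeSpectrum.asIdeal_lt_asIdeal]
    refine lt_of_eq_of_lt rfl (lt_of_lt_of_le h0 ?_)
    rw [LTSeries.head_map]
    exact fun a ha => show φ a ∈ l.head.asIdeal by rw [RingHom.mem_ker.1 ha]; exact zero_mem _
  have h := Order.length_le_height (p := l'.cons ⊥ hlt) (x := PrimeSpectrum.comap φ ⟨q, inferInstance⟩)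
    (by rw [RelSeries.last_cons, LTSeries.last_map, hl])
  rw [RelSeries.cons_length, Nat.cast_add, Nat.cast_one] at h
  rw [← hlen, show (q.comap φ).height = Order.height (PrimeSpectrum.comap φ ⟨q, inferInstance⟩) from
    PrimeSpectrum.height_eq_orderHeight (PrimeSpectrum.comap φ ⟨q, inferInstance⟩)]
  exact h

theorem height_le_one_of_disjoint {A : Type u} [CommRing A] [IsDomain A] [IsNoetherianRing A] (Q : Ideal A[X])
    [Q.IsPrime] [Q.LiesOver (⊥ : Ideal A)] : Q.height ≤ 1 := by
  let K := FractionRing A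
  letI : Algebra A[X] K[X] := Polynomial.algebra A K
  haveI : IsLocalization (Submonoid.map (C : A →+* A[X]) (nonZeroDivisors A)) K[X] :=
    Polynomial.isLocalization (nonZeroDivisors A) K
  have disj : Disjoint (Submonoid.map (C : A →+* A[X]) (nonZeroDivisors A) : Set A[X]) (Q : Set A[X]) := by
    refine Set.disjoint_left.2 fun a ⟨b, hb, hba⟩ ha => ?_
    have : b ∈ Q.under A := by
      rw [Ideal.mem_comap, Polynomial.algebraMap_eq]
      exact hba.symm ▸ ha
    rw [← Ideal.LiesOver.over (P := Q) (p := (⊥ : Ideal A)), Ideal.mem_bot] at this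
    exact nonZeroDivisors.ne_zero hb this
  rw [← IsLocalization.height_map_of_disjoint (R := A[X]) (S := K[X]) _ _ disj]
  have hp := IsLocalization.isPrime_of_isPrime_disjoint _ K[X] Q inferInstance disj
  have := Ideal.height_le_ringKrullDim_of_ne_top hp.ne_top
  rw [ringKrullDim_of_isNoetherianRing, ringKrullDim_eq_zero_of_field, zero_add] at this
  exact WithBot.coe_le_coe.1 this

theorem dichotomy {R : Type u} [CommRing R] [IsNoetherianRing R] (p : Ideal R) [p.IsPrime] (Q : Ideal R[X])
    [Q.IsPrime] [Q.LiesOver p] :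
    Q.height ≤ p.height ∨ (Q.height ≤ p.height + 1 ∧ ∃ f ∈ Q, f.map (Ideal.Quotient.mk p) ≠ 0) := by
  let e : (R[X] ⧸ (p.map (algebraMap R R[X]))) ≃+* (R ⧸ p)[X] :=
    (polynomialQuotientEquivQuotientPolynomial p).symm
  have hle := Ideal.height_le_height_add_of_liesOver p Q
  have hp : p.map (algebraMap R R[X]) ≤ Q := by
    rw [Ideal.map_le_iff_le_comap]
    exact (Ideal.LiesOver.over (P := Q) (p := p)).le
  have hmapQ : (Q.map (Ideal.Quotient.mk (p.map (algebraMap R R[X])))).IsPrime :=
    Ideal.map_isPrime_of_surjective Ideal.Quotient.mk_surjective (by rwa [Ideal.mk_ker])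
  by_cases h : ∀ f ∈ Q, f.map (Ideal.Quotient.mk p) = 0
  · left
    refine hle.trans ?_
    have hQ : Q.map (Ideal.Quotient.mk (p.map (algebraMap R R[X]))) = ⊥ := by
      rw [Ideal.map_eq_bot_iff_le_ker, Ideal.mk_ker]
      intro f hf
      rw [Polynomial.algebraMap_eq, Ideal.mem_map_C_iff]
      intro n
      rw [← Ideal.Quotient.eq_zero_iff_mem, ← Polynomial.coeff_map, h f hf, Polynomial.coeff_zero]
    haveI : IsDomain (R[X] ⧸ (p.map (algebraMap R R[X]))) := e.toMulEquiv.isDomain _
    rw [hQ, Ideal.height_bot, add_zero]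
  · push Not at h
    refine Or.inr ⟨hle.trans ?_, h⟩
    gcongr
    rw [← e.height_map]
    haveI := Ideal.map_isPrime_of_equiv e (I := Q.map (Ideal.Quotient.mk (p.map (algebraMap R R[X]))))
    haveI : ((Q.map (Ideal.Quotient.mk (p.map (algebraMap R R[X])))).map e).LiesOver (⊥ : Ideal (R ⧸ p)) := by
      refine ⟨(eq_bot_iff.2 fun a ha => ?_).symm⟩
      obtain ⟨r, rfl⟩ := Ideal.Quotient.mk_surjective a
      replace ha : C (Ideal.Quotient.mk p r) ∈ (Q.map (Ideal.Quotient.mk (p.map (algebraMap R R[X])))).map e := ha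
      obtain ⟨z, hz, hze⟩ := (Ideal.mem_map_iff_of_surjective _ e.surjective).1 ha
      obtain ⟨g, hg, rfl⟩ := (Ideal.mem_map_iff_of_surjective _ Ideal.Quotient.mk_surjective).1 hz
      have : (C r : R[X]) - g ∈ p.map (algebraMap R R[X]) := by
        rw [← Ideal.Quotient.eq]
        refine e.injective ?_
        rw [show e (Ideal.Quotient.mk _ g) = C (Ideal.Quotient.mk p r) from hze]
        exact (polynomialQuotientEquivQuotientPolynomial p).eq_symm_apply.2 (by
          simp [polynomialQuotientEquivQuotientPolynomial]) |>.symm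
      have hr : (C r : R[X]) ∈ Q := by
        have := add_mem (hp this) hg
        rwa [sub_add_cancel] at this
      rw [Ideal.mem_bot, Ideal.Quotient.eq_zero_iff_mem, Ideal.LiesOver.over (P := Q) (p := p)]
      exact hr
    exact height_le_one_of_disjoint _

theorem ineq_singleton {R : Type u} [CommRing R] [IsDomain R] [IsNoetherianRing R] {S : Type u} [CommRing S]
    [IsDomain S] [Algebra R S] [IsNoetherianRing S] {x : S} (hx : Algebra.adjoin R {x} = ⊤)
    (p : Ideal R) [p.IsPrime] (q : Ideal S) [q.IsPrime] [q.LiesOver p] :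
    q.height + tr (R ⧸ p) (S ⧸ q) ≤ p.height + tr R S := by
  let φ : R[X] →ₐ[R] S := Polynomial.aeval x
  have hφ : Function.Surjective φ.toRingHom := fun s => by
    have : s ∈ (Polynomial.aeval (R := R) x).range := by
      rw [← Algebra.adjoin_singleton_eq_range_aeval, hx]; exact Algebra.mem_top
    exact this
  let Q := q.comap φ.toRingHom
  haveI : Q.LiesOver p := ⟨by
    rw [Ideal.under, Ideal.comap_comap, Ideal.LiesOver.over (P := q) (p := p), Ideal.under]
    congr 1
    exact φ.comp_algebraMap.symm⟩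
  let y : S ⧸ q := Ideal.Quotient.mk q x
  have hy : Algebra.adjoin (R ⧸ p) ({y} : Set (S ⧸ q)) = ⊤ := by
    rw [eq_top_iff]
    intro b _
    obtain ⟨s, rfl⟩ := Ideal.Quotient.mk_surjective b
    have hs : s ∈ Algebra.adjoin R ({x} : Set S) := hx ▸ Algebra.mem_top
    induction hs using Algebra.adjoin_induction with
    | mem z hz => exact Algebra.subset_adjoin (by rw [Set.mem_singleton_iff.1 hz]; exact Set.mem_singleton y)
    | algebraMap r => exact Subalgebra.algebraMap_mem _ (Ideal.Quotient.mk p r)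
    | add a b _ _ ha hb => rw [map_add]; exact add_mem (ha trivial) (hb trivial)
    | mul a b _ _ ha hb => rw [map_mul]; exact mul_mem (ha trivial) (hb trivial)
  have key : Q.height + tr (R ⧸ p) (S ⧸ q) ≤ p.height + 1 := by
    rcases dichotomy p Q with h | ⟨h, f, hf, hf0⟩
    · exact add_le_add h (tr_le_one_of_adjoin_singleton hy)
    · rw [tr_eq_zero_of_adjoin_singleton hy ⟨f.map (Ideal.Quotient.mk p), hf0, ?_⟩, add_zero]
      · exact h
      · rw [Polynomial.aeval_def, Polynomial.eval₂_map]
        have : Ideal.Quotient.mk q (φ f) = 0 := Ideal.Quotient.eq_zero_iff_mem.2 hf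
        rw [← this, show φ f = Polynomial.eval₂ (algebraMap R S) x f from rfl, Polynomial.hom_eval₂]
        rfl
  by_cases hinj : Function.Injective φ.toRingHom
  · refine le_trans ?_ (add_le_add le_rfl (one_le_tr (A := R) (y := x) ?_))
    · exact le_trans (add_le_add (height_le_of_surjective _ hφ q) le_rfl) key
    · rintro ⟨g, hg, hg0⟩
      exact hg (hinj (hg0.trans (map_zero φ.toRingHom).symm))
  · have h1 := le_trans (add_le_add (height_add_one_le_of_surjective _ hφ hinj q) le_rfl) key
    rw [add_right_comm] at h1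
    exact ((ENat.add_le_add_iff_right ENat.one_ne_top).1 h1).trans le_self_add

end Groth.Agent.DimFormula14

namespace Groth.Agent.DimFormula14

theorem faithfulSMul_quotient {A B : Type u} [CommRing A] [CommRing B] [Algebra A B] (p : Ideal A) (q : Ideal B)
    [q.LiesOver p] : FaithfulSMul (A ⧸ p) (B ⧸ q) := by
  rw [faithfulSMul_iff_algebraMap_injective, injective_iff_map_eq_zero]
  intro a ha
  obtain ⟨r, rfl⟩ := Ideal.Quotient.mk_surjective a
  rw [Ideal.Quotient.eq_zero_iff_mem, Ideal.LiesOver.over (P := q) (p := p)]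
  exact (Ideal.Quotient.eq_zero_iff_mem (I := q)).1 (show Ideal.Quotient.mk q (algebraMap A B r) = 0 from ha)

theorem ineq_of_adjoin (n : ℕ) : ∀ (R : Type u) [CommRing R] [IsDomain R] [IsNoetherianRing R]
    (S : Type u) [CommRing S] [IsDomain S] [Algebra R S] [FaithfulSMul R S] (s : Finset S),
    s.card ≤ n → Algebra.adjoin R (s : Set S) = ⊤ →
    ∀ (p : Ideal R) [p.IsPrime] (q : Ideal S) [q.IsPrime] [q.LiesOver p],
      q.height + tr (R ⧸ p) (S ⧸ q) ≤ p.height + tr R S := by
  induction n with
  | zero =>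
    intro R _ _ _ S _ _ _ _ s hs htop p _ q _ _
    have hS : Algebra.adjoin R ({0} : Set S) = ⊤ := by
      rw [Finset.card_eq_zero.1 (Nat.le_zero.1 hs), Finset.coe_empty] at htop
      exact top_unique (htop.symm.le.trans (Algebra.adjoin_mono (Set.empty_subset _)))
    haveI : Algebra.FiniteType R S := ⟨⟨{0}, by rw [Finset.coe_singleton]; exact hS⟩⟩
    haveI : IsNoetherianRing S := Algebra.FiniteType.isNoetherianRing R S
    exact ineq_singleton hS p q
  | succ n ih =>
    intro R _ _ _ S _ _ _ _ s hs htop p _ q _ _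
    classical
    haveI : Algebra.FiniteType R S := ⟨⟨s, htop⟩⟩
    haveI : IsNoetherianRing S := Algebra.FiniteType.isNoetherianRing R S
    rcases s.eq_empty_or_nonempty with rfl | ⟨a, ha⟩
    · refine ineq_singleton (x := (0 : S)) (top_unique (htop.symm.le.trans (Algebra.adjoin_mono ?_))) p q
      simp
    let R1 : Subalgebra R S := Algebra.adjoin R ({a} : Set S)
    haveI : IsNoetherianRing R1 := isNoetherianRing_of_fg (Subalgebra.fg_def.2 ⟨_, Set.finite_singleton a, rfl⟩)
    haveI : FaithfulSMul R R1 := (faithfulSMul_iff_algebraMap_injective R R1).2 fun x y hxy =>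
      FaithfulSMul.algebraMap_injective R S (congrArg Subtype.val hxy)
    let x : R1 := ⟨a, Algebra.self_mem_adjoin_singleton R a⟩
    have hx : Algebra.adjoin R ({x} : Set R1) = ⊤ := by
      rw [← Algebra.adjoin_adjoin_coe_preimage (R := R) (A := S) (s := {a})]
      congr 1
      exact Set.ext fun z => ⟨fun h => congrArg Subtype.val h, fun h => Subtype.ext h⟩
    have htop1 : Algebra.adjoin R1 ((s.erase a : Finset S) : Set S) = ⊤ := by
      refine Subalgebra.restrictScalars_injective R ?_
      rw [← Algebra.adjoin_union_eq_adjoin_adjoin, Subalgebra.restrictScalars_top, ← htop]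
      congr 1
      rw [Finset.coe_erase, Set.singleton_union, Set.insert_sdiff_singleton, Set.insert_eq_of_mem (Finset.mem_coe.2 ha)]
    let p1 := q.under R1
    haveI : p1.LiesOver p := ⟨by
      rw [Ideal.LiesOver.over (P := q) (p := p)]
      exact (Ideal.under_under q).symm⟩
    haveI : q.LiesOver p1 := ⟨rfl⟩
    have h2 := ih R1 S (s.erase a) (by rw [Finset.card_erase_of_mem ha]; omega) htop1 p1 q
    have h1 := ineq_singleton hx p p1
    haveI := faithfulSMul_quotient p p1
    haveI := faithfulSMul_quotient p1 q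
    haveI : IsScalarTower (R ⧸ p) (R1 ⧸ p1) (S ⧸ q) := IsScalarTower.of_algebraMap_eq fun z => by
      obtain ⟨r, rfl⟩ := Ideal.Quotient.mk_surjective z
      rfl
    have e1 : tr (R ⧸ p) (R1 ⧸ p1) + tr (R1 ⧸ p1) (S ⧸ q) = tr (R ⧸ p) (S ⧸ q) := by
      rw [tr, tr, tr, ← map_add, trdeg_add_eq]
    have e2 : tr R R1 + tr R1 S = tr R S := by
      rw [tr, tr, tr, ← map_add, trdeg_add_eq]
    have h := add_le_add h1 h2
    have hfin : p1.height ≠ ⊤ := Ideal.height_ne_top_of_isPrime
    rw [← e1, ← e2]
    refine (ENat.add_le_add_iff_left hfin).1 ?_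
    calc p1.height + (q.height + (tr (R ⧸ p) (R1 ⧸ p1) + tr (R1 ⧸ p1) (S ⧸ q)))
        = p1.height + tr (R ⧸ p) (R1 ⧸ p1) + (q.height + tr (R1 ⧸ p1) (S ⧸ q)) := by ring
      _ ≤ p.height + tr R R1 + (p1.height + tr R1 S) := h
      _ = p1.height + (p.height + (tr R R1 + tr R1 S)) := by ring

/-- The dimension inequality. -/
theorem height_add_tr_le (R : Type u) [CommRing R] [IsDomain R] [IsNoetherianRing R] (S : Type u) [CommRing S]
    [IsDomain S] [Algebra R S] [FaithfulSMul R S] [Algebra.FiniteType R S] (p : Ideal R) [p.IsPrime]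
    (q : Ideal S) [q.IsPrime] [q.LiesOver p] :
    q.height + tr (R ⧸ p) (S ⧸ q) ≤ p.height + tr R S := by
  obtain ⟨s, hs⟩ := ‹Algebra.FiniteType R S›.out
  exact ineq_of_adjoin s.card R S s le_rfl hs p q

end Groth.Agent.DimFormula14
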